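import Mathlib
import Cfsg.Agent.H29.Ext

set_option autoImplicit false
set_option maxRecDepth 100000
set_option Elab.async false
set_option linter.all false

namespace H28.HTqq2

open H29

def ivl : List ℕ := []
def cols : List ℕ := [0, 1, 2, 3, 4, 5, 6, 7]
def hcols : List ℕ := [0, 1, 2, 3, 4, 5, 7]
def G0 : List (List ℕ) := [[0, 1, 0, 1, 0, 1, 0, 1],
 [0, 2, 0, 2],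
 [1, 2, 1, 2, 1, 2, 1, 2],
 [0, 1, 0, 2, 1, 0, 2, 1, 0, 2, 1, 2],
 [0, 3, 0, 3],
 [1, 3, 1, 3],
 [2, 3, 2, 3, 2, 3, 2, 3],
 [1, 2, 1, 3, 2, 1, 3, 2, 1, 3, 2, 3],
 [1, 4, 1, 4],
 [0, 4, 0, 4, 0, 4],
 [0, 1, 0, 1, 4, 0, 1, 0, 4],
 [1, 2, 3, 2, 1, 2, 3, 4, 2, 4],
 [1, 2, 4, 2, 3, 4, 3],
 [3, 5, 3, 5],
 [1, 5, 1, 5, 1, 5],
 [0, 1, 0, 1, 5, 0, 5],
 [1, 2, 1, 2, 5, 2, 5],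
 [0, 6, 0, 6],
 [2, 6, 2, 6, 2, 6],
 [1, 2, 1, 2, 6, 1, 6],
 [2, 3, 2, 3, 6, 3, 6],
 [2, 7, 2, 7],
 [3, 7, 3, 7, 3, 7],
 [2, 3, 2, 3, 7, 3, 2, 3, 7],
 [0, 1, 2, 1, 0, 1, 2, 7, 1, 7],
 [0, 1, 7, 1, 0, 2, 7],
 [0, 1, 3, 4, 0, 7, 4, 0, 7, 3, 4],
 [1, 5, 7, 5, 1, 7],
 [2, 4, 2, 6, 4, 6],
 [5, 6, 5, 6, 5, 6],
 [1, 4, 5, 1, 4, 5, 7, 4, 5, 4, 5, 4, 7, 5],
 [0, 1, 5, 4, 0, 5, 4, 0, 5, 4, 5, 7, 3, 4, 2],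
 [0, 4, 6, 7, 6, 4, 0, 7, 6, 7, 6, 7, 6, 7],
 [0, 4, 6, 7, 6, 2, 3, 7, 6, 7, 6, 2, 1, 3, 7]]
def R0 : List (List ℕ) := G0
theorem hii : ∀ c, ivOf ivl (ivOf ivl c) = c := ivOf_ivOf (by decide +kernel)

end H28.HTqq2
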